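import Groth.Agent.AssocBunLib.Main
import Groth.Agent.FibBCLib.AssocBundle

/-!
# Associated bundles of Zariski-locally trivial principal bundles
-/

set_option autoImplicit false
set_option backward.isDefEq.respectTransparency false
set_option backward.isDefEq.respectTransparency.types false
set_option linter.style.haveILetI false
set_option maxHeartbeats 400000

noncomputable section

universe u

open CategoryTheory CategoryTheory.Limits MonoidalCategory CartesianMonoidalCategory AlgebraicGeometry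
open scoped MonObj

namespace MixZarLib

open DescLib

/-- Descent along the identity. -/
theorem effective_id {S : Scheme.{u}} (D : Desc.SchDD (𝟙 S)) :
    ∃ U : Over S, Nonempty ((Desc.toDD (𝟙 S)).obj U ≅ D) :=
  effective_of_isQuot (D := D) (j := 𝟙 D.obj.left) (g := D.obj.hom) (q := 𝟙 D.obj.left)
    { rel := fun T a b r => by
        simp only [Category.comp_id] at r ⊢
        exact r.eq (by simpa only [Category.comp_id] using r.1)
      lift := fun T a c _ => ⟨c, Category.comp_id c⟩
      isPullback := IsPullback.of_horiz_isIso ⟨by simp⟩ }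

/-- Descent along a morphism with sections locally on the base is effective. -/
theorem effective_of_sections {X S : Scheme.{u}} {p : X ⟶ S} [Fpqc p] (D : Desc.SchDD p)
    (h : ∀ y : S, ∃ (W : S.Opens) (s : W.toScheme ⟶ X), y ∈ W ∧ s ≫ p = W.ι) :
    ∃ U : Over S, Nonempty ((Desc.toDD p).obj U ≅ D) := by
  refine effective_of_forall_good D fun v => ?_
  obtain ⟨W, s, hy, hs⟩ := h ((D.obj.hom ≫ p) v)
  have w : s ≫ p = 𝟙 W.toScheme ≫ W.ι := by rw [Category.id_comp, hs]
  exact ⟨(D.obj.hom ≫ p) ⁻¹ᵁ W, hy, good_of_refinement D w (effective_id _)⟩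

end MixZarLib

namespace Groth.Agent.AssocBun

variable {S : Scheme.{u}} {G X Y F : Over S} [GrpObj G] {a : AlgGrp.Action G X} {φ : X ⟶ Y}
  (hcart : IsPullback a.act (snd G X) φ φ) (b : AlgGrp.Action G F)

include hcart b in
/-- The associated bundle. -/
theorem exists_bundle_of_sections [DescLib.Fpqc φ.left]
    (hs : ∀ y : Y.left, ∃ (W : Y.left.Opens) (s : W.toScheme ⟶ X.left), y ∈ W ∧ s ≫ φ.left = W.ι) :
    ∃ (Q : Over S) (q : X ⊗ F ⟶ Q) (r : Q ⟶ Y),
      IsPullback (fst X F).left q.left φ.left r.left ∧ IsPullback (a.prod b).act (snd G (X ⊗ F)) q q := by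
  obtain ⟨U, ⟨e⟩⟩ := MixZarLib.effective_of_sections (datum hcart b) hs
  have he : e.hom.hom.left ≫ (fst X F).left = pullback.fst φ.left U.hom := Over.w e.hom.hom
  have he' : e.inv.hom.left ≫ pullback.fst φ.left U.hom = (fst X F).left := Over.w e.inv.hom
  have heq₁ : e.hom.hom.left ≫ e.inv.hom.left = 𝟙 _ := congrArg (fun m => m.hom.left) e.hom_inv_id
  have heq₂ : e.inv.hom.left ≫ e.hom.hom.left = 𝟙 _ := congrArg (fun m => m.hom.left) e.inv_hom_id
  let Q : Over S := Over.mk (U.hom ≫ Y.hom)
  let q : X ⊗ F ⟶ Q := Over.homMk (e.inv.hom.left ≫ pullback.snd φ.left U.hom) (by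
    change (_ ≫ _) ≫ U.hom ≫ Y.hom = (X ⊗ F).hom
    rw [Category.assoc, ← reassoc_of% (pullback.condition (f := φ.left) (g := U.hom)), reassoc_of% he',
      Over.w φ, Over.w (fst X F)])
  let r : Q ⟶ Y := Over.homMk U.hom rfl
  let eI : (X ⊗ F).left ≅ pullback φ.left U.hom := ⟨e.inv.hom.left, e.hom.hom.left, heq₂, heq₁⟩
  have sq : IsPullback (fst X F).left q.left φ.left r.left :=
    IsPullback.of_iso (IsPullback.of_hasPullback φ.left U.hom) eI.symm (Iso.refl _) (Iso.refl _) (Iso.refl _)
      ((Category.comp_id _).trans (he.symm)) (by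
        change pullback.snd φ.left U.hom ≫ 𝟙 _ = e.hom.hom.left ≫ e.inv.hom.left ≫ pullback.snd φ.left U.hom
        rw [reassoc_of% heq₁, Category.comp_id])
      (by simp) (by simp [r])
  have hext : ∀ {W : Over S} (V V' : W ⟶ X ⊗ F), V ≫ fst X F = V' ≫ fst X F → V ≫ q = V' ≫ q → V = V' :=
    fun V V' h1 h2 => Over.OverMorphism.ext (sq.hom_ext (congrArg Over.Hom.left h1) (congrArg Over.Hom.left h2))
  have hinv : ∀ {W : Over S} (g : W ⟶ G) (V : W ⟶ X ⊗ F), (lift g V ≫ (a.prod b).act) ≫ q = V ≫ q := by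
    intro W g V
    refine Over.OverMorphism.ext ?_
    have hh : (V ≫ fst X F).left ≫ φ.left = (lift g (V ≫ fst X F) ≫ a.act).left ≫ φ.left := by
      rw [← Over.comp_left, ← Over.comp_left, Category.assoc (lift g _), hcart.w, lift_snd_assoc]
    have hc := e.inv.comm (V ≫ fst X F).left (lift g (V ≫ fst X F) ≫ a.act).left hh
      ⟨V.left, rfl⟩ ⟨V.left ≫ e.inv.hom.left, by
        change (V.left ≫ e.inv.hom.left) ≫ pullback.fst φ.left U.hom = (V ≫ fst X F).left
        rw [Category.assoc, he']; rfl⟩ rfl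
    change (Desc.canMap φ.left U _ _ hh _).1 = (glue hcart b _ _ hh ⟨V.left, rfl⟩).1 ≫ e.inv.hom.left at hc
    rw [glue_eq hcart b g V _ _ hh ⟨V.left, rfl⟩ rfl rfl, Desc.canMap_val] at hc
    have h2 := congrArg (· ≫ pullback.snd φ.left U.hom) hc
    simp only [pullback.lift_snd, Category.assoc] at h2
    exact h2.symm
  have hex : ∀ {W : Over S} (V V' : W ⟶ X ⊗ F), V ≫ q = V' ≫ q → ∃ g, lift g V' ≫ (a.prod b).act = V := by
    intro W V V' hq
    have hφ : (V ≫ fst X F) ≫ φ = (V' ≫ fst X F) ≫ φ := Over.OverMorphism.ext (by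
      have := congrArg (fun m => m.left ≫ r.left) hq
      simp only [Over.comp_left, Category.assoc, ← sq.w] at this
      simpa only [Over.comp_left, Category.assoc] using this)
    refine ⟨div hcart (V' ≫ fst X F) (V ≫ fst X F) hφ, hext _ _ ?_ ((hinv _ _).trans hq.symm)⟩
    rw [AlgGrp.Action.prod_act, comp_lift, lift_fst, lift_whiskerLeft_assoc, div_spec]
  refine ⟨Q, q, r, sq, IsPullback.of_isLimit' ⟨?_⟩ (PullbackCone.IsLimit.mk _
    (fun c => lift (hex c.fst c.snd c.condition).choose c.snd) (fun c => (hex c.fst c.snd c.condition).choose_spec)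
    (fun c => lift_snd _ _) fun c m e1 e2 => ?_)⟩
  · refine AlgGrp.Action.hom_ext_lift₂ fun W g V => ?_
    rw [← Category.assoc, hinv, lift_snd_assoc]
  · have hm : m = lift (m ≫ fst G (X ⊗ F)) c.snd :=
      CartesianMonoidalCategory.hom_ext _ _ (lift_fst _ _).symm (e2.trans (lift_snd _ _).symm)
    rw [hm]
    congr 1
    refine act_cancel hcart (x := c.snd ≫ fst X F) ?_
    have h1 : lift (m ≫ fst G (X ⊗ F)) c.snd ≫ (a.prod b).act
        = lift (hex c.fst c.snd c.condition).choose c.snd ≫ (a.prod b).act := by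
      rw [← hm, (hex c.fst c.snd c.condition).choose_spec]; exact e1
    simpa only [AlgGrp.Action.prod_act, comp_lift, lift_whiskerLeft_assoc, lift_fst, lift_snd, Category.assoc]
      using congrArg (· ≫ fst X F) h1

end Groth.Agent.AssocBun

end
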